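import Mathlib
import Cfsg.Agent.H998.UnbDC.Red
import Cfsg.Agent.H998.OddComp.NoAltThree
import Cfsg.Agent.H284.AltComp
import Cfsg.Agent.FixBN.AltSB
import Cfsg.Agent.Intrinsic.Bridge
import Cfsg.Agent.CTwoTab.Exc
import Cfsg.Agent.S0892
/-!
# S3118: the assembly (helper998)
-/

set_option autoImplicit false
set_option linter.unusedSectionVars false

namespace Cfsg.Agent.H998.UnbDC

open Subgroup Cfsg Cfsg.Agent.Lib Cfsg.Agent.SignalizersComponents
open Cfsg.Agent.SignalizersComponents.IntrinsicBasic Cfsg.Agent.Intrinsic.Charac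
open Cfsg.Agent.FixBN.Reduce
open Cfsg.Agent.H289.NoAlt (AltCov)
open scoped commutatorElement

/-- a nonsplit double cover of `A_m` is quasisimple -/
theorem qs_of_cover {C : Type*} [Group C] {m : ℕ} (hm : 5 ≤ m)
    (h : IsNonsplitDoubleCover C ↥(alternatingGroup (Fin m))) : IsQuasisimple C := by
  refine ⟨Intrinsic.Bridge.perfect_of_cover hm h, ?_⟩
  obtain ⟨-, ⟨e⟩, -⟩ := h
  have : IsSimpleGroup ↥(alternatingGroup (Fin m)) :=
    alternatingGroup.isSimpleGroup (by rw [Nat.card_eq_fintype_card, Fintype.card_fin]; omega)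
  exact e.isSimpleGroup

/-- quotients of `2.A_m` -/
theorem altCov_of_surjective {D Q : Type*} [Group D] [Finite D] [Group Q] {p m : ℕ} (hp2 : 2 < p) (hm : 5 ≤ m)
    (h : IsNonsplitDoubleCover D ↥(alternatingGroup (Fin m))) (g : D →* Q) (hg : Function.Surjective g)
    (hQ : Nontrivial Q) : AltCov p m Q := by
  have hD := qs_of_cover hm h
  have hker : g.ker ≤ center D := by
    rcases ComponentSolvable.quasisimple_normal_cases hD (N := g.ker) inferInstance with h1 | h1
    · exfalso
      obtain ⟨a, b, hab⟩ := hQ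
      obtain ⟨a, rfl⟩ := hg a
      obtain ⟨b, rfl⟩ := hg b
      have h2 : ∀ y : D, g y = 1 := fun y => by
        have : y ∈ g.ker := h1 ▸ mem_top y
        exact this
      exact hab ((h2 a).trans (h2 b).symm)
    · exact h1
  obtain ⟨e⟩ := exists_central_equiv hD g hg hker
  obtain ⟨h1, ⟨f⟩, -⟩ := h
  have hfQ : Finite Q := Finite.of_surjective g hg
  refine ⟨?_, ⟨e.symm.trans f⟩⟩
  intro hd
  have h2 : Nat.card Q ∣ Nat.card D := by
    exact Subgroup.card_dvd_of_surjective g hg
  have h3 := Subgroup.card_eq_card_quotient_mul_card_subgroup (center Q)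
  have h4 := Subgroup.card_eq_card_quotient_mul_card_subgroup (center D)
  rw [h3, h4, Nat.card_congr e.toEquiv, h1] at h2
  have h5 := Nat.dvd_of_mul_dvd_mul_left Nat.card_pos h2
  exact absurd (Nat.le_of_dvd (by norm_num) (hd.trans h5)) (by omega)

/-- the image of a `2`-component of type `2.A_m` -/
theorem altCov_of_hom {J K : Type*} [Group J] [Finite J] [Group K] [Finite K] {p m : ℕ} (hp2 : 2 < p) (hm : 5 ≤ m)
    (h : IsNonsplitDoubleCover (J ⧸ oddCore J) ↥(alternatingGroup (Fin m))) (f : J →* K)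
    (hf : Function.Surjective f) (hK : IsQuasisimple (K ⧸ oddCore K)) : AltCov p m (K ⧸ oddCore K) := by
  have hcore : oddCore J ≤ (oddCore K).comap f := by
    rw [← Subgroup.map_le_iff_le_comap]
    refine Cores.le_pPrimeCore ?_ ?_
    · exact (Cores.pPrimeCore_normal 2).map _ hf
    · exact (Cores.pPrimeCore_coprime 2).coprime_dvd_left (Subgroup.card_map_dvd _ _)
  let g : J ⧸ oddCore J →* K ⧸ oddCore K := QuotientGroup.map _ _ f hcore
  have hg : Function.Surjective g := by
    intro y
    obtain ⟨y, rfl⟩ := QuotientGroup.mk'_surjective _ y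
    obtain ⟨x, rfl⟩ := hf y
    exact ⟨QuotientGroup.mk x, rfl⟩
  have hn : Nontrivial ((K ⧸ oddCore K) ⧸ center (K ⧸ oddCore K)) := hK.2.toNontrivial
  exact altCov_of_surjective hp2 hm h g hg (QuotientGroup.mk'_surjective (center (K ⧸ oddCore K))).nontrivial

/-! ### the unbalancing triple -/

section Triple

universe u

variable {G : Type u} [Group G] [Finite G] {F : Subgroup G} (S : Sit F)

include S in
/-- the UGT applies to `G / Z(F)` -/
theorem ugt_image {x : G} (hx : x * x = 1) (hE : ¬ centralizerPPrimeCore 2 x ≤ centralizer (F : Set G))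
    {X : Type u} [Group X] [Finite X] {π : G →* X} (hk : π.ker = centralizer (F : Set G))
    (hle : (centralizerPPrimeCore 2 x).map π ≤ centralizerPPrimeCore 2 (π x)) :
    orderOf (π x) = 2 ∧ centralizerPPrimeCore 2 (π x) ≠ ⊥ := by
  refine ⟨orderOf_eq_prime (by rw [pow_two, ← map_mul, hx, map_one]) ?_, ?_⟩
  · intro h1
    apply hE
    have hxF : x ∈ centralizer (F : Set G) := by rw [← hk]; exact h1
    refine S.le_cen_of_odd (W := centralizerPPrimeCore 2 x) (cpc_odd x) ?_ ?_
    · intro f hf w hw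
      exact cpc_conj x (mem_centralizer_singleton_iff.2 (mem_centralizer_iff.1 hxF f hf)) hw
    · rw [Subgroup.commutator_le]
      intro e he f hf
      have h2 := cpc_conj x (mem_centralizer_singleton_iff.2 (mem_centralizer_iff.1 hxF f hf)) (inv_mem he)
      have h3 : ⁅e, f⁆ = e * (f * e⁻¹ * f⁻¹) := by rw [commutatorElement_def]; group
      rw [h3]
      exact mul_mem he h2
  · intro h1
    rw [h1, le_bot_iff, Subgroup.map_eq_bot_iff, hk] at hle
    exact hE hle

/-- the conjugation by `a` on a normal subgroup -/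
noncomputable def cjN {X : Type*} [Group X] (N : Subgroup X) [N.Normal] (a : X) : ↥N ≃* ↥N := MulAut.conjNormal a

theorem fixSub_cjN {X : Type*} [Group X] (N : Subgroup X) [N.Normal] (a : X) :
    fixSub (cjN N a) = (N ⊓ centralizer ({a} : Set X)).subgroupOf N := by
  ext y
  rw [mem_subgroupOf, mem_fixSub]
  constructor
  · intro h
    have h1 : a * (y : X) * a⁻¹ = y := congrArg Subtype.val h
    refine Subgroup.mem_inf.2 ⟨y.2, mem_centralizer_singleton_iff.2 ?_⟩
    rw [mul_inv_eq_iff_eq_mul] at h1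
    exact h1.symm
  · intro h
    have h1 := mem_centralizer_singleton_iff.1 h.2
    apply Subtype.ext
    change a * (y : X) * a⁻¹ = y
    rw [← h1]; group

/-- A perfect group has no complement to a nontrivial central subgroup. -/
theorem not_complement {Y : Type*} [Group Y] (hY : Group.IsPerfect Y) (h1 : center Y ≠ ⊥)
    (L : Subgroup Y) : ¬ (center Y).IsComplement' L := by
  intro hc
  have hsup : center Y ⊔ L = ⊤ := hc.sup_eq_top
  have hLn : L.Normal := by
    rw [← normalizer_eq_top_iff, eq_top_iff, ← hsup, sup_le_iff]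
    exact ⟨(center_le_centralizer _).trans (centralizer_le_normalizer _), le_normalizer⟩
  have hL : commutator Y ≤ L := by
    rw [_root_.commutator_def, Subgroup.commutator_le]
    intro a _ b _
    have ha : a ∈ center Y ⊔ L := hsup ▸ mem_top a
    obtain ⟨s, hs, l, hl, rfl⟩ := Subgroup.mem_sup_of_normal_left.1 ha
    have e : ⁅s * l, b⁆ = l * (b * l⁻¹ * b⁻¹) := by
      rw [commutatorElement_def]
      have hs' := fun g => mem_center_iff.mp hs g
      calc s * l * b * (s * l)⁻¹ * b⁻¹ = s * (l * b * l⁻¹) * s⁻¹ * b⁻¹ := by group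
        _ = (l * b * l⁻¹) * s * s⁻¹ * b⁻¹ := by rw [hs' (l * b * l⁻¹)]
        _ = _ := by group
    rw [e]
    exact L.mul_mem hl (hLn.conj_mem _ (L.inv_mem hl) b)
  have htop : L = ⊤ := by
    rw [eq_top_iff, ← hY.commutator_eq_top]
    exact hL
  apply h1
  rw [htop] at hc
  exact isComplement'_top_right.mp hc

theorem two_card {m : ℕ} (hm : 2 ≤ m) : 2 * Nat.card ↥(alternatingGroup (Fin m)) = m.factorial := by
  have : Nontrivial (Fin m) := Fin.nontrivial_iff_two_le.2 hm
  have h := two_mul_nat_card_alternatingGroup (α := Fin m)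
  rw [h, Nat.card_perm, Nat.card_fin]

/-- a group whose quotient by the odd core is `2.A_m` is not simple -/
theorem not_simple_of_cover {H : Type*} [Group H] [Finite H] {m : ℕ} (hm : 5 ≤ m)
    (h : IsNonsplitDoubleCover (H ⧸ oddCore H) ↥(alternatingGroup (Fin m))) : ¬ IsSimpleGroup H := by
  intro hs
  have hq := qs_of_cover hm h
  have hn : Nontrivial ((H ⧸ oddCore H) ⧸ center (H ⧸ oddCore H)) := hq.2.toNontrivial
  have hn2 : Nontrivial (H ⧸ oddCore H) := (QuotientGroup.mk'_surjective (center (H ⧸ oddCore H))).nontrivial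
  have hsD : IsSimpleGroup (H ⧸ oddCore H) :=
    IsSimpleGroup.isSimpleGroup_of_surjective (QuotientGroup.mk' (oddCore H)) (QuotientGroup.mk'_surjective _)
  rcases (inferInstance : (center (H ⧸ oddCore H)).Normal).eq_bot_or_eq_top with h1 | h1
  · have := h.1
    rw [h1, Subgroup.card_bot] at this
    omega
  · exact ComponentSolvable.quasisimple_center_ne_top hq h1

/-- **The theorem.** -/
theorem main (T : OrdDiv.OrderTable.{0}) {F : Subgroup G} (S : Sit F) {X : Type u} [Group X] [Finite X] {π : G →* X}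
    (hπ : Function.Surjective π) (hk : π.ker = centralizer (F : Set G)) (hU : FixBN.BTheorem.UGT X)
    {a x : G} (ha : orderOf a = 2) (hx : x * x = 1)
    (hle : (centralizerPPrimeCore 2 x).map π ≤ centralizerPPrimeCore 2 (π x))
    (hE : ¬ centralizerPPrimeCore 2 x ≤ centralizer (F : Set G))
    {J : Subgroup G} (hJ : TC (centralizer ({a} : Set G)) J) {m : ℕ} (hm : 9 ≤ m)
    {J0 : Type*} [Group J0] [Finite J0] (ej : J0 ≃* ↥J)
    (hJA : IsNonsplitDoubleCover (J0 ⧸ oddCore J0) ↥(alternatingGroup (Fin m))) :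
    ∃ n : ℕ, m ≤ n ∧ IsNonsplitDoubleCover ↥F ↥(alternatingGroup (Fin n)) := by
  have haa : a * a = 1 := by rw [← pow_two, ← ha, pow_orderOf_eq_one]
  obtain ⟨ho, hne⟩ := ugt_image S hx hE hk hle
  have hgf := S.genFitting_map hπ hk
  have hFn := S.nor
  have hKn : (F.map π).Normal := S.nor.map π hπ
  have hKs := S.simple_map hk
  have hUc := hU (by rw [hgf]; exact hKs) (by rw [hgf]; exact S.not_comm_map hk) (π x) ho hne
  rw [hgf] at hUc
  -- the `2`-component
  have hJF : J ≤ F := Sit.tc_le S haa hJ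
  have h0 := Sit.tc_map' S hπ hk haa hJ
  let τ := cjN (F.map π) (π a)
  have hτ : ∀ g, τ (τ g) = g := by
    intro g
    apply Subtype.ext
    change π a * (π a * (g : X) * (π a)⁻¹) * (π a)⁻¹ = g
    have h1 : π a * π a = 1 := by rw [← map_mul, haa, map_one]
    calc π a * (π a * (g : X) * (π a)⁻¹) * (π a)⁻¹ = (π a * π a) * g * (π a * π a)⁻¹ := by group
      _ = g := by rw [h1]; group
  have hT : TC (fixSub τ) ((J.map π).subgroupOf (F.map π)) := by
    have h1 := tc_subgroupOf h0 (inf_le_left : F.map π ⊓ centralizer ({π a} : Set X) ≤ F.map π)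
    rw [← fixSub_cjN (F.map π) (π a)] at h1
    exact h1
  obtain ⟨J1, hJ1⟩ : ∃ J1, J1 = (J.map π).subgroupOf (F.map π) := ⟨_, rfl⟩
  rw [← hJ1] at hT
  have hfJ : ∃ f : ↥J →* ↥(J1.subgroupOf (fixSub τ)), Function.Surjective f ∧
      ∀ j, (((f j : ↥(fixSub τ)) : ↥(F.map π)) : X) = π j := by
    have e1 : ↥(J1.subgroupOf (fixSub τ)) ≃* ↥J1 := subgroupOfEquivOfLe hT.le
    subst hJ1
    refine ⟨((subgroupOfEquivOfLe hT.le).symm.toMonoidHom.comp
      (subgroupOfEquivOfLe (map_mono hJF)).symm.toMonoidHom).comp (π.subgroupMap J), ?_, fun j => rfl⟩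
    exact ((subgroupOfEquivOfLe hT.le).symm.surjective.comp
      (subgroupOfEquivOfLe (map_mono hJF)).symm.surjective).comp (π.subgroupMap_surjective J)
  obtain ⟨f, hf, hfv⟩ := hfJ
  have hcov : ∀ p : ℕ, 2 < p → AltCov p m (↥(J1.subgroupOf (fixSub τ)) ⧸ oddCore ↥(J1.subgroupOf (fixSub τ))) :=
    fun p hp => altCov_of_hom hp (by omega) hJA (f.comp ej.toMonoidHom) (hf.comp ej.surjective)
      (PCompQuot.quasisimple_quotient hT.comp)
  have hdvd : Nat.card ↥(alternatingGroup (Fin m)) ∣ Nat.card ↥(F.map π) :=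
    (AltCov.dvd (C := ↥(fixSub τ)) (J := J1.subgroupOf (fixSub τ)) (hcov 3 (by norm_num))).trans
      (Subgroup.card_subgroup_dvd_card (fixSub τ))
  have hcm := two_card (m := m) (by omega)
  have h9 : Nat.factorial 9 ∣ m.factorial := Nat.factorial_dvd_factorial hm
  have h9' : 181440 ∣ Nat.card ↥(F.map π) := by
    refine dvd_trans ?_ hdvd
    have h1 : 2 * 181440 ∣ 2 * Nat.card ↥(alternatingGroup (Fin m)) := by
      rw [hcm]; exact (by decide : 2 * 181440 ∣ Nat.factorial 9).trans h9
    exact Nat.dvd_of_mul_dvd_mul_left (by norm_num) h1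
  rcases hUc with ⟨p, hp, hp2, hl⟩ | ⟨n, hn, hn7, ⟨e⟩⟩ | ⟨F4, _, _, hF4, ⟨e⟩⟩ | hHe
  · -- Lie type in odd characteristic
    exfalso
    have h2p : 2 < p := by have := hp.two_le; omega
    exact OddComp.noAlt_odd T hp hp2 hl τ hτ (MulEquiv.refl _) hm hT.comp (hcov p h2p)
  · -- alternating
    have hcn := two_card (m := n) (by omega)
    have hmn : m ≤ n := by
      by_contra hlt
      have h1 := Nat.le_of_dvd Nat.card_pos hdvd
      rw [Nat.card_congr e.toEquiv] at h1
      have h2 : n.factorial < m.factorial := (Nat.factorial_lt (by omega)).2 (by omega)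
      omega
    obtain ⟨e0⟩ := S.exists_equiv hk
    have hperf := S.qs.1
    have h2 : Nat.card (center ↥F) ≤ 2 :=
      S0892.result n (by omega) (by omega) (by omega) (center ↥F) le_rfl
        (by rw [hperf.commutator_eq_top]; exact le_top) (e0.trans e)
    have h3 : 0 < Nat.card (center ↥F) := Nat.card_pos
    by_cases h1 : Nat.card (center ↥F) = 1
    · exfalso
      have hcb : center ↥F = ⊥ := Subgroup.card_eq_one.1 h1
      have hcF : centralizer (F : Set G) = ⊥ := by
        rw [eq_bot_iff]
        intro z hz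
        have h4 : (⟨z, S.cen hz⟩ : ↥F) ∈ center ↥F := by
          rw [mem_center_iff]
          intro g
          exact Subtype.ext (mem_centralizer_iff.1 hz g g.2)
        rw [hcb, Subgroup.mem_bot] at h4
        exact Subgroup.mem_bot.2 (congrArg Subtype.val h4)
      rw [hcF] at hk
      have hinj : Function.Injective π := (MonoidHom.ker_eq_bot_iff π).1 hk
      have hfi : Function.Injective f := by
        intro j j' hjj
        apply Subtype.ext
        apply hinj
        rw [← hfv, ← hfv, hjj]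
      have hcomp : IsComponent (J1.subgroupOf (fixSub τ)) := by
        refine ClassificationK.PCompTransport.isComponent_of_isPComponent 2 hT.comp ?_
        exact (SB.congr e.symm (FixBN.AltSB.sb n hn7)) τ hτ _ hT.comp _ (Cores.pPrimeCore_normal 2)
          (Nat.coprime_two_right.1 (Cores.pPrimeCore_coprime 2))
      have hτ1 : (τ : MulAut ↥(F.map π)) ≠ 1 := by
        intro h4
        have h5 : π a ∈ centralizer ((F.map π : Subgroup X) : Set X) := by
          rw [mem_centralizer_iff]
          intro y hy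
          have h6 : τ ⟨y, hy⟩ = ⟨y, hy⟩ := by rw [h4]; rfl
          have h7 : π a * y * (π a)⁻¹ = y := congrArg Subtype.val h6
          rw [mul_inv_eq_iff_eq_mul] at h7
          exact h7.symm
        have h5' := S.cen_map hπ (by rw [hk, hcF])
        rw [h5', Subgroup.mem_bot] at h5
        have h6 : a = 1 := hinj (by rw [h5, map_one])
        rw [h6, orderOf_one] at ha
        omega
      obtain ⟨k, _, hk5, _, _, ⟨e2⟩, _⟩ := H284.AltComp.table (by omega) e (x := τ)
        (MulEquiv.ext hτ) hτ1 (A := J1.subgroupOf (fixSub τ)) hcomp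
      have hk' : IsSimpleGroup ↥(alternatingGroup (Fin k)) :=
        alternatingGroup.isSimpleGroup (by rw [Nat.card_eq_fintype_card, Fintype.card_fin]; omega)
      have hs2 : IsSimpleGroup ↥(J1.subgroupOf (fixSub τ)) := e2.isSimpleGroup
      have e3 : ↥J ≃* ↥(J1.subgroupOf (fixSub τ)) := MulEquiv.ofBijective f ⟨hfi, hf⟩
      exact not_simple_of_cover (by omega) hJA (ej.trans e3).isSimpleGroup
    · have h4 : Nat.card (center ↥F) = 2 := by omega
      refine ⟨n, hmn, h4, ⟨e0.trans e⟩, not_complement hperf ?_⟩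
      intro h5
      rw [h5, Subgroup.card_bot] at h4
      omega
  · -- `L₃(4)`
    exfalso
    rw [Nat.card_congr e.toEquiv, CTwoTab.card_PSL_three F4 hF4] at h9'
    exact absurd (Nat.le_of_dvd (by norm_num) h9') (by norm_num)
  · -- `He`
    exfalso
    rw [NotCT.Orders.he hHe] at h9'
    norm_num at h9'

/-- **S3118** from the Unbalanced Group Theorem for `G / Z(F*(G))` -/
theorem final (T : OrdDiv.OrderTable.{0})
    [hcn : (centralizer ((generalizedFittingSubgroup G : Subgroup G) : Set G)).Normal]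
    (hU : FixBN.BTheorem.UGT (G ⧸ centralizer ((generalizedFittingSubgroup G : Subgroup G) : Set G)))
    (hFT : ∀ (H : Type u) [Group H] [Finite H], Odd (Nat.card H) → Group.IsSolvable H)
    (hF : Cfsg.IsQuasisimple ↥(Cfsg.generalizedFittingSubgroup G))
    (a x : G) (ha : orderOf a = 2) (hx : orderOf x = 2)
    (J : Subgroup ↥(Subgroup.centralizer ({a} : Set G))) (hJ : Cfsg.IsPComponent 2 J)
    (hunb : J.map (Subgroup.centralizer ({a} : Set G)).subtype =
      (Cfsg.oddCore ↥J).map ((Subgroup.centralizer ({a} : Set G)).subtype.comp J.subtype) ⊔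
        ⁅J.map (Subgroup.centralizer ({a} : Set G)).subtype, Cfsg.centralizerPPrimeCore 2 x ⊓ Subgroup.centralizer ({a} : Set G)⁆)
    (m : ℕ) (hm : 9 ≤ m) (hJA : Cfsg.IsNonsplitDoubleCover (↥J ⧸ Cfsg.oddCore ↥J) ↥(alternatingGroup (Fin m))) :
    ∃ n : ℕ, m ≤ n ∧ Cfsg.IsNonsplitDoubleCover ↥(Cfsg.generalizedFittingSubgroup G) ↥(alternatingGroup (Fin n)) := by
  have heven : 2 ∣ Nat.card ↥(generalizedFittingSubgroup G) := by
    by_contra h2
    have h3 : Odd (Nat.card ↥(generalizedFittingSubgroup G)) := Nat.not_even_iff_odd.1 (fun h => h2 (even_iff_two_dvd.1 h))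
    exact Components.quasisimple_not_isSolvable hF (hFT _ h3)
  have S := sit hF heven
  have haa : a * a = 1 := by rw [← pow_two, ← ha, pow_orderOf_eq_one]
  have hxx : x * x = 1 := by rw [← pow_two, ← hx, pow_orderOf_eq_one]
  have hT : TC (centralizer ({a} : Set G)) (J.map (centralizer ({a} : Set G)).subtype) := tc_of_subtype hJ
  have hFn := S.nor
  have hE : ¬ centralizerPPrimeCore 2 x ≤ centralizer ((generalizedFittingSubgroup G : Subgroup G) : Set G) := by
    intro h
    have h1 : ⁅J.map (Subgroup.centralizer ({a} : Set G)).subtype,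
        Cfsg.centralizerPPrimeCore 2 x ⊓ Subgroup.centralizer ({a} : Set G)⁆ = ⊥ := by
      rw [Subgroup.commutator_comm, commutator_eq_bot_iff_le_centralizer]
      exact inf_le_left.trans (h.trans (centralizer_le (Sit.tc_le S haa hT)))
    rw [h1, sup_bot_eq, ← Subgroup.map_map] at hunb
    have h2 := Subgroup.map_injective (centralizer ({a} : Set G)).subtype_injective hunb
    have h3 : oddCore ↥J = ⊤ := by
      apply Subgroup.map_injective J.subtype_injective
      rw [← h2, ← MonoidHom.range_eq_map, range_subtype]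
    have hq := qs_of_cover (by omega) hJA
    apply ComponentSolvable.quasisimple_center_ne_top hq
    rw [eq_top_iff]
    intro y _
    obtain ⟨y, rfl⟩ := QuotientGroup.mk'_surjective _ y
    have h4 : QuotientGroup.mk' (oddCore ↥J) y = 1 := (QuotientGroup.eq_one_iff y).2 (by rw [h3]; trivial)
    rw [h4]
    exact one_mem _
  exact main T S (QuotientGroup.mk'_surjective _) (QuotientGroup.ker_mk' _) hU ha hxx
    (core_image S.cen_comm hxx) hE hT hm (J.equivMapOfInjective _ (centralizer ({a} : Set G)).subtype_injective) hJA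

end Triple

end Cfsg.Agent.H998.UnbDC
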